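import Cfsg.Agent.Lib.TameRank.Regular
import Cfsg.Agent.Lib.Blocks.SolvableHeight
import Cfsg.Agent.Lib.BlockRank.Basic
import Cfsg.Agent.Lib.CharDeep.Extend
import Cfsg.Agent.Lib.CharDeep.Gallagher
import Cfsg.Agent.Lib.Transfer.ThompsonFactor

/-!
# The rank of a `2`-block of a solvable group with a defect group having a large cyclic subgroup
-/

set_option autoImplicit false
set_option maxHeartbeats 1600000
set_option synthInstance.maxHeartbeats 400000

open Cfsg CfsgLib.Blocks
open scoped ComplexConjugate Classical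

namespace CfsgLib.TameRank

universe u

variable {G : Type u} [Group G] [Fintype G]

/-- On a coset the characters over an invariant character are proportional. -/
theorem exists_coset_function (N : Subgroup G) [hN : N.Normal] [Fintype N] (θ : IrrCharacter N)
    (hinv : ∀ g : G, CharTwist.conjFun N (θ : N → ℂ) g = (θ : N → ℂ)) (g : G) :
    ∃ Θ : N → ℂ, ∀ χ : IrrCharacter G,
      classInner (fun n : N => (χ : G → ℂ) n) (θ : N → ℂ) ≠ 0 →
      ∃ a : ℂ, ∀ n : N, (χ : G → ℂ) (g * n) = a * Θ n := by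
  set T := N ⊔ Subgroup.zpowers g with hT
  have hNT : N ≤ T := le_sup_left
  have hgT : g ∈ T := (le_sup_right : _ ≤ T) (Subgroup.mem_zpowers g)
  haveI : Fintype T := Fintype.ofFinite T
  set N' := N.subgroupOf T with hN'
  haveI : Fintype N' := Fintype.ofFinite N'
  set θ' : IrrCharacter N' := ⟨CliffordOver.trans N T hNT (θ : N → ℂ),
    CliffordOver.isIrrCharacter_trans N T hNT θ.2⟩ with hθ'
  have hinv' : ∀ t : T, CharTwist.conjFun N' (θ' : N' → ℂ) t = (θ' : N' → ℂ) := fun t => by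
    have h : t ∈ CharTwist.inertia N' (θ' : N' → ℂ) := by
      rw [show CharTwist.inertia N' (θ' : N' → ℂ) = (CharTwist.inertia N (θ : N → ℂ)).subgroupOf T from
        CliffordOver.inertia_trans N T hNT _, Subgroup.mem_subgroupOf, CharTwist.mem_inertia]
      exact hinv _
    exact CharTwist.mem_inertia.1 h
  have hcyc : IsCyclic (T ⧸ N') := by
    refine ⟨⟨QuotientGroup.mk' N' ⟨g, hgT⟩, fun q => ?_⟩⟩
    obtain ⟨t, rfl⟩ := QuotientGroup.mk'_surjective N' q
    obtain ⟨n, hn, y, hy, hny⟩ := Subgroup.mem_sup_of_normal_left.1 (t.2 : (t : G) ∈ N ⊔ _)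
    obtain ⟨k, rfl⟩ := Subgroup.mem_zpowers_iff.1 hy
    refine Subgroup.mem_zpowers_iff.2 ⟨k, ?_⟩
    rw [← map_zpow]
    refine (QuotientGroup.eq (s := N')).2 ?_
    show ((⟨g, hgT⟩ ^ k)⁻¹ * t : T).1 ∈ N
    rw [Subgroup.coe_mul, Subgroup.coe_inv, SubgroupClass.coe_zpow, ← hny]
    simpa [mul_assoc] using hN.conj_mem n hn (g ^ k)⁻¹
  obtain ⟨η, hη, hηn⟩ := CharDeep.Extend.extends_of_cyclic N' (θ' : N' → ℂ) θ'.2
    (fun t n => congrFun (hinv' t) n) hcyc
  have hηres : (fun n : N' => η n) = (θ' : N' → ℂ) := funext hηn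
  refine ⟨fun n => η ⟨g * n, mul_mem hgT (hNT n.2)⟩, fun χ hχ => ?_⟩
  obtain ⟨e, -, hres⟩ := CharDeep.Cliff.res_eq_smul N χ.2 θ.2 hinv hχ
  obtain ⟨m, hm⟩ := Char.IsCharacter.exists_nat_combination
    (CfsgLib.Clifford.isCharacter_res (Char.IsIrrCharacter.isCharacter χ.2) T)
  have hψ : ∀ ψ : IrrCharacter T, ∃ a : ℂ, m ψ = 0 ∨ ∀ n : N,
      (ψ : T → ℂ) ⟨g * n, mul_mem hgT (hNT n.2)⟩ = a * η ⟨g * n, mul_mem hgT (hNT n.2)⟩ := by
    intro ψ
    by_cases hm0 : m ψ = 0
    · exact ⟨0, Or.inl hm0⟩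
    have h1 : classInner (fun t : T => (χ : G → ℂ) t) (ψ : T → ℂ) ≠ 0 := by
      rw [hm, Char.classInner_sum_smul_irr]
      exact_mod_cast hm0
    obtain ⟨η₀, hη₀, hc⟩ := CfsgLib.Clifford.exists_constituent_res N' ψ.2
    set η₁ : IrrCharacter N :=
      ⟨η₀ ∘ (Subgroup.subgroupOfEquivOfLe hNT).symm, CharTwist.isIrrCharacter_comp_equiv hη₀ _⟩
      with hη₁
    have htr : CliffordOver.trans N T hNT (η₁ : N → ℂ) = η₀ := funext fun n => by
      simp [CliffordOver.trans, hη₁]
    have h2 : classInner (fun n : N => (ψ : T → ℂ) ⟨n, hNT n.2⟩) (η₁ : N → ℂ) ≠ 0 := by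
      rw [← CliffordOver.classInner_trans N T hNT, htr]
      exact hc
    have h3 := constituent_trans N T hNT (χ := χ) h1 h2
    have heq : η₁ = θ := by
      by_contra hne
      refine h3 ?_
      rw [hres, Char.classInner_smul_left, Char.classInner_irr_of_ne θ.2 η₁.2
        fun h => hne (Subtype.ext h.symm), mul_zero]
    have h4 : classInner (fun n : N' => (ψ : T → ℂ) n) (fun n : N' => η n) ≠ 0 := by
      rw [hηres, hθ', ← heq]
      show classInner _ (CliffordOver.trans N T hNT (η₁ : N → ℂ)) ≠ 0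
      rw [htr]
      exact hc
    obtain ⟨β, -, hβ⟩ := (CharDeep.Gal.quotient_bijection N' hη (hηres ▸ θ'.2)).2.2 _ ψ.2 h4
    refine ⟨β (QuotientGroup.mk' N' ⟨g, hgT⟩), Or.inr fun n => ?_⟩
    rw [← hβ, Pi.mul_apply, Function.comp_apply]
    congr 2
    refine (QuotientGroup.eq (s := N')).2 ?_
    show _ ∈ N
    simp
  choose a ha using hψ
  refine ⟨∑ ψ : IrrCharacter T, (m ψ : ℂ) * a ψ, fun n => ?_⟩
  have h := congrFun hm ⟨g * n, mul_mem hgT (hNT n.2)⟩
  simp only [Finset.sum_apply, Pi.smul_apply, smul_eq_mul] at h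
  rw [show (χ : G → ℂ) (g * n) = _ from h, Finset.sum_mul]
  refine Finset.sum_congr rfl fun ψ _ => ?_
  rcases ha ψ with h0 | h0
  · simp [h0]
  · rw [h0 n, mul_assoc]

variable {p : ℕ}

/-- Over an invariant character there are no more independent functions on regular elements than
regular classes of the quotient. -/
theorem blockRank_le_regular_classes (N : Subgroup G) [hN : N.Normal] [Fintype N]
    (θ : IrrCharacter N) (hinv : ∀ g : G, CharTwist.conjFun N (θ : N → ℂ) g = (θ : N → ℂ))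
    {S : Set (IrrCharacter G)}
    (hS : ∀ χ ∈ S, classInner (fun n : N => (χ : G → ℂ) n) (θ : N → ℂ) ≠ 0) :
    blockRank p S ≤
      Nat.card {C : ConjClasses (G ⧸ N) // ∀ g, ConjClasses.mk g = C → IsPRegular p g} := by
  set ι := {C : ConjClasses (G ⧸ N) // ∀ g, ConjClasses.mk g = C → IsPRegular p g}
  haveI : Finite (ConjClasses (G ⧸ N)) := Finite.of_surjective ConjClasses.mk Quotient.mk_surjective
  haveI : Fintype ι := Fintype.ofFinite ι
  have hrep : ∀ C : ι, ∃ r : G, ConjClasses.mk (r : G ⧸ N) = C.1 := fun C => by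
    obtain ⟨q, hq⟩ := ConjClasses.exists_rep C.1
    obtain ⟨r, rfl⟩ := QuotientGroup.mk_surjective q
    exact ⟨r, hq⟩
  choose r hr using hrep
  have hreg : ∀ x : G, IsPRegular p x → ∀ q : G ⧸ N,
      ConjClasses.mk q = ConjClasses.mk (x : G ⧸ N) → IsPRegular p q := by
    intro x hx q hq
    obtain ⟨c, hc⟩ := isConj_iff.1 (ConjClasses.mk_eq_mk_iff_isConj.1 hq.symm)
    rw [← hc, CfsgLib.BlockRank.isPRegular_conj]
    exact fun hd => hx (hd.trans (orderOf_map_dvd (QuotientGroup.mk' N) x))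
  let cl : ∀ x : G, IsPRegular p x → ι := fun x hx => ⟨ConjClasses.mk (x : G ⧸ N), hreg x hx⟩
  have hdec : ∀ (x : G) (hx : IsPRegular p x), ∃ (h : G) (n : N),
      h * x * h⁻¹ = r (cl x hx) * n := by
    intro x hx
    obtain ⟨q, hq⟩ := isConj_iff.1 (ConjClasses.mk_eq_mk_iff_isConj.1 (hr (cl x hx)).symm)
    obtain ⟨h, rfl⟩ := QuotientGroup.mk_surjective q
    refine ⟨h, ⟨(r (cl x hx))⁻¹ * (h * x * h⁻¹), (QuotientGroup.eq).1 ?_⟩, ?_⟩
    · rw [← hq]; simp
    · simp
  choose hh nn hn using hdec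
  choose Θ hΘ using fun C : ι => exists_coset_function N θ hinv (r C)
  let L : (ι → ℂ) →ₗ[ℂ] (G → ℂ) :=
    { toFun := fun a x => if hx : IsPRegular p x then a (cl x hx) * Θ (cl x hx) (nn x hx) else 0
      map_add' := fun a b => by
        funext x
        simp only [Pi.add_apply]
        split_ifs <;> ring
      map_smul' := fun c a => by
        funext x
        simp only [Pi.smul_apply, smul_eq_mul, RingHom.id_apply]
        split_ifs <;> ring }
  have hle : Submodule.span ℂ ((fun χ : IrrCharacter G => pRegularPart p (χ : G → ℂ)) '' S) ≤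
      LinearMap.range L := by
    rw [Submodule.span_le]
    rintro _ ⟨χ, hχ, rfl⟩
    choose a ha using fun C : ι => hΘ C χ (hS χ hχ)
    refine ⟨a, funext fun x => ?_⟩
    show (if hx : IsPRegular p x then _ else _) = pRegularPart p (χ : G → ℂ) x
    rw [CfsgLib.BlockRank.pRegularPart_apply]
    split_ifs with hx
    · rw [← ha, ← hn x hx, Char.IsIrrCharacter.isClassFunction χ.2 x (hh x hx)]
    · rfl
  refine ((Submodule.finrank_mono hle).trans (LinearMap.finrank_range_le L)).trans ?_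
  rw [Module.finrank_fintype_fun_eq_card, Nat.card_eq_fintype_card]

/-- Induction commutes with restriction to the regular elements. -/
theorem indFun_pRegularPart (T : Subgroup G) (f : T → ℂ) :
    indFun T (pRegularPart p f) = pRegularPart p (indFun T f) := by
  funext g
  rw [CfsgLib.BlockRank.pRegularPart_apply]
  simp only [indFun]
  have h : ∀ x : G, ∀ hx : x⁻¹ * g * x ∈ T,
      IsPRegular p (⟨x⁻¹ * g * x, hx⟩ : T) ↔ IsPRegular p g := by
    intro x hx
    rw [IsPRegular, ← Subgroup.orderOf_coe]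
    have := CfsgLib.BlockRank.isPRegular_conj (p := p) g x⁻¹
    rw [inv_inv] at this
    exact this
  split_ifs with hg
  · congr 1
    refine Finset.sum_congr rfl fun x _ => ?_
    unfold extendByZero
    by_cases hx : x⁻¹ * g * x ∈ T
    · have e : ∀ φ : T → ℂ, Function.extend Subtype.val φ 0 (x⁻¹ * g * x) = φ ⟨_, hx⟩ := fun φ =>
        Subtype.val_injective.extend_apply φ 0 ⟨_, hx⟩
      rw [e, e, CfsgLib.BlockRank.pRegularPart_apply, if_pos ((h x hx).2 hg)]
    · rw [Function.extend_apply' _ _ _ (by simpa using hx),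
        Function.extend_apply' _ _ _ (by simpa using hx)]
  · rw [Finset.sum_eq_zero fun x _ => ?_, mul_zero]
    unfold extendByZero
    by_cases hx : x⁻¹ * g * x ∈ T
    · rw [show Function.extend Subtype.val (pRegularPart p f) 0 (x⁻¹ * g * x) =
          pRegularPart p f ⟨_, hx⟩ from Subtype.val_injective.extend_apply (pRegularPart p f) (0 : G → ℂ) ⟨_, hx⟩,
        CfsgLib.BlockRank.pRegularPart_apply, if_neg fun h' => hg ((h x hx).1 h')]
    · rw [Function.extend_apply' _ _ _ (by simpa using hx)]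
      rfl

omit [Fintype G] in
variable {M : Ideal AlgInt} [M.IsMaximal] in
/-- A `2`-block of a solvable group whose defect group has the given shape has rank at most two. -/
theorem blockRank_le_two (hM : IsPModular 2 M) (n : ℕ) :
    ∀ (G : Type u) [Group G] [Finite G], Nat.card G = n → Group.IsSolvable G →
      ∀ (B : Set (IrrCharacter G)), IsPBlock M B → ∀ D : Subgroup G, IsDefectGroup 2 M B D →
        Shape D → blockRank 2 B ≤ 2 := by
  induction n using Nat.strong_induction_on with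
  | _ n ih =>
  intro G _ _ hn hsol B hB D hD hS
  haveI : Fact (Nat.Prime 2) := ⟨Nat.prime_two⟩
  haveI : Fintype G := Fintype.ofFinite G
  have hsolv : IsPSolvable 2 G := CfsgLib.ThompsonFactor.isPSolvable_of_isSolvable hsol
  set N := pPrimeCore 2 G with hNdef
  haveI : N.Normal := CfsgLib.Solvable.pPrimeCore_normal 2 G
  haveI : Fintype N := Fintype.ofFinite N
  obtain ⟨χ, hχ⟩ := IsPBlock.nonempty hB
  obtain ⟨η, hη, hc⟩ := CfsgLib.Clifford.exists_constituent_res N χ.2
  set θ : IrrCharacter N := ⟨η, hη⟩ with hθ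
  set T := CharTwist.inertia N (θ : N → ℂ) with hTdef
  have hNco : (Nat.card N).Coprime 2 := hNdef ▸ CfsgLib.Solvable.pPrimeCore_card_coprime 2 G
  by_cases hT : T = ⊤
  · have hinv : ∀ g : G, CharTwist.conjFun N (θ : N → ℂ) g = (θ : N → ℂ) := fun g =>
      CharTwist.mem_inertia.1 (show g ∈ T by rw [hT]; trivial)
    obtain ⟨B', hB', hmem, χ', hχ', hdeg⟩ := fong_full hM hsolv N hNdef θ hinv
    obtain rfl : B' = B := IsPBlock.eq_of_mem hB' hB ((hmem χ).2 hc) hχ
    obtain ⟨S, rfl⟩ := (isDefectGroup_sylow_of_deg hM hB' hχ' hdeg).2 D hD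
    refine (blockRank_le_regular_classes N θ hinv fun ψ hψ => (hmem ψ).1 hψ).trans ?_
    have hC : Subgroup.centralizer (pCore 2 (G ⧸ N) : Set (G ⧸ N)) ≤ pCore 2 (G ⧸ N) :=
      CfsgLib.Blocks82.centralizer_pCore_le (CfsgLib.Blocks82.isPSolvable_quotient hsolv N)
        (CfsgLib.Solvable.pPrimeCore_quotient_eq_bot N hNdef)
    refine card_regular_classes_le hC (S.mapSurjective (QuotientGroup.mk'_surjective N)) ?_
    rw [Sylow.coe_mapSurjective]
    refine hS.congr (MulEquiv.ofBijective ((QuotientGroup.mk' N).subgroupMap S) ⟨?_,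
      MonoidHom.subgroupMap_surjective _ _⟩)
    rw [injective_iff_map_eq_one]
    intro s hs
    have hsN : (s : G) ∈ N := (QuotientGroup.eq_one_iff _).1 (congrArg Subtype.val hs)
    obtain ⟨k, hk⟩ := IsPGroup.iff_orderOf.1 (S.2 : IsPGroup 2 (S : Subgroup G)) s
    rw [← orderOf_eq_one_iff]
    refine Nat.eq_one_of_dvd_coprimes (hNco.pow_right k) ?_ (hk ▸ dvd_rfl)
    rw [← Subgroup.orderOf_coe, ← Subgroup.orderOf_mk (s : G) hsN]
    exact orderOf_dvd_natCard _
  · haveI : Fintype T := Fintype.ofFinite T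
    have hNT : N ≤ T := CharTwist.le_inertia N (Char.IsIrrCharacter.isClassFunction θ.2)
    have hθblock : ({θ} : Set (IrrCharacter N)) = blockOf M (θ : N → ℂ) :=
      ((Cfsg.Agent.S0914.result 2 M hM θ).1 fun h => (Nat.prime_two.coprime_iff_not_dvd.1 hNco.symm)
        (h.trans (Nat.div_dvd_of_dvd (CfsgLib.BlockReg.deg_dvd_card θ)))).symm
    have hbθ : IsPBlock M ({θ} : Set (IrrCharacter N)) := hθblock ▸ isPBlock_blockOf θ
    have hTb : ∀ g : G, g ∈ T ↔ ∀ θ₁ ∈ ({θ} : Set (IrrCharacter N)),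
        conjIrr N θ₁ g ∈ ({θ} : Set (IrrCharacter N)) := fun g => by
      simp only [Set.mem_singleton_iff, forall_eq, hTdef, CharTwist.mem_inertia]
      exact ⟨fun h => Subtype.ext (by rw [coe_conjIrr]; exact h),
        fun h => by rw [← coe_conjIrr, h]⟩
    obtain ⟨ψ, hψo, hψe⟩ := exists_overSet_of_covers N T hNT hbθ hTb (χ := χ)
      ⟨θ, Set.mem_singleton θ, hc⟩
    set B' := blockOf M (ψ : T → ℂ) with hB'def
    have hB' : IsPBlock M B' := isPBlock_blockOf ψ
    have hψB' : ψ ∈ B' := mem_blockOf_self ψ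
    obtain ⟨B₁, hind, -, -, hmem⟩ := fongReynolds N T hNT hbθ hTb hB' hψB' hψo
    obtain rfl : B₁ = B :=
      IsPBlock.eq_of_mem hind.2.1 hB ((hmem χ).2 ⟨ψ, hψB', hψe⟩) hχ
    obtain ⟨hdef, -⟩ := fongReynolds_defect N T hNT hM hbθ hTb hB' hψB' hψo hind
    obtain ⟨D', hD'⟩ := exists_defectGroup hM hB'
    obtain ⟨x, hx⟩ := defectGroup_conj hM hB (hdef D' hD') hD
    have hlt : Nat.card T < n := hn ▸ lt_of_le_of_ne (Subgroup.card_le_card_group T)
      fun h => hT (Subgroup.eq_top_of_card_eq T h)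
    have hsolT : Group.IsSolvable T := inferInstance
    refine le_trans ?_ (ih _ hlt T rfl hsolT B' hB' D' hD' (hS.congr
      ((D'.equivMapOfInjective T.subtype T.subtype_injective).trans
      (((D'.map T.subtype).equivMapOfInjective _ (MulAut.conj x).injective).trans
        (MulEquiv.subgroupCongr hx))).symm))
    let L : (T → ℂ) →ₗ[ℂ] (G → ℂ) :=
      { toFun := indFun T
        map_add' := Char.indFun_add T
        map_smul' := fun c f => Char.indFun_smul T c f }
    refine (Submodule.finrank_mono (t := (Submodule.span ℂ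
      ((fun φ : IrrCharacter T => pRegularPart 2 (φ : T → ℂ)) '' B')).map L) ?_).trans
      (Submodule.finrank_map_le L _)
    rw [Submodule.span_le]
    rintro _ ⟨φ, hφ, rfl⟩
    obtain ⟨φ', hφ', e⟩ := (hmem φ).1 hφ
    refine ⟨pRegularPart 2 (φ' : T → ℂ), Submodule.subset_span ⟨φ', hφ', rfl⟩, ?_⟩
    show indFun T _ = pRegularPart 2 (φ : G → ℂ)
    rw [indFun_pRegularPart, e]

end CfsgLib.TameRank
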