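import Cfsg.Agent.Lib.DihedralBlocks.Invariants
import Cfsg.Agent.Lib.BlockRank.CentralQuot

/-!
# Tame blocks of maximal rank and the centre
-/

set_option autoImplicit false
set_option maxHeartbeats 1600000
set_option synthInstance.maxHeartbeats 400000

open Cfsg CfsgLib.Blocks CfsgLib.Blocks.Pairs CfsgLib.DihBlocks
open scoped Classical

namespace CfsgLib.TameRank

universe u

variable {G : Type u} [Group G] [Fintype G] {M : Ideal AlgInt} [M.IsMaximal]
  [CharP (ResField M) 2] {B : Set (IrrCharacter G)}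

/-- With three Brauer characters every involution outside the cyclic part is fused to the centre. -/
theorem isConj_reflection (hM : IsPModular 2 M) (hB : IsPBlock M B) {D : Subgroup G} {x s : G}
    {q : ℕ} {e : MonoidAlgebra (ResField M) G} (h : Dih D x s q)
    (hP : PairOf 2 (ebar hB) D e) (hno : NoExt 2 D e) (hl : 3 ≤ blockRank 2 B) {r : G} (hr : r ∈ D)
    (hrx : r ∉ Subgroup.zpowers x) : IsConj r (x ^ q) := by
  by_contra hne
  have hq := h.two_le
  have hmem : ∀ j : Fin q, x ^ ((j : ℕ) + 1) ∈ Subgroup.zpowers x :=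
    fun j => Subgroup.npow_mem_zpowers x _
  have hr2 : orderOf r = 2 := orderOf_eq_prime (by rw [sq]; exact h.sq_out hr hrx)
    fun h1 => hrx (h1 ▸ one_mem _)
  have hz2 : orderOf (x ^ q) = 2 := by
    rw [orderOf_pow_of_dvd (by omega) (h.order ▸ dvd_mul_left q 2), h.order,
      Nat.mul_div_cancel _ (by omega)]
  have hno' : ∀ j : Fin q, ¬ IsConj r (x ^ ((j : ℕ) + 1)) := by
    intro j hc
    obtain ⟨t, ht⟩ := isConj_iff.1 hc
    have ho : orderOf (x ^ ((j : ℕ) + 1)) = 2 := by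
      rw [← ht, show t * r * t⁻¹ = MulAut.conj t r from rfl, MulEquiv.orderOf_eq, hr2]
    exact hne (h.eq_of_order_le_two (hmem j) (Subgroup.npow_mem_zpowers x q) (by rw [ho, hz2])
      (by omega) ▸ hc)
  have h1 := rank_add_le hM hB (ι := Option (Fin q))
    (fun o => o.elim r fun j => x ^ ((j : ℕ) + 1))
    (fun o => o.elim (below D e r) fun j => below D e (x ^ ((j : ℕ) + 1))) ?_ ?_ ?_
  · have h2 := (dihedral_invariants hM hB h hP hno).1
    rw [Fintype.card_option, Fintype.card_fin] at h1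
    omega
  · rintro (_ | j) h0
    · exact hrx ((show r = 1 from h0) ▸ one_mem _)
    · have h2 := h.pow_inj (a := (j : ℕ) + 1) (b := 0) (by omega) (by omega) (by
        rw [show x ^ ((j : ℕ) + 1) = 1 from h0, pow_zero])
      omega
  · rintro (_ | j)
    · exact pairOf_below hP hr
    · exact pairOf_below hP (h.zpowers_le (hmem j))
  · rintro (_ | i) (_ | j) hij t ht hconj
    · exact hij rfl
    · exact hno' j (isConj_iff.2 ⟨t, ht⟩)
    · exact hno' i (isConj_iff.2 ⟨t, ht⟩).symm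
    · simp only [Option.elim_some] at ht hconj
      have hu' : t * x ^ ((i : ℕ) + 1) * t⁻¹ ∈ Subgroup.zpowers x := by rw [ht]; exact hmem j
      refine hij (congrArg some (Fin.ext ?_))
      rcases h.eq_or_eq_inv_of_fused hM hP hno (hmem i) hu' (f := below D e (x ^ ((i : ℕ) + 1)))
        (f' := below D e (x ^ ((j : ℕ) + 1)))
        (sle_below hP.pair (h.zpowers_le (hmem i)))
        (by rw [ht]; exact sle_below hP.pair (h.zpowers_le (hmem j))) hconj with h3 | h3 <;>
        rw [ht] at h3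
      · have := h.pow_inj (by omega) (by omega) h3
        omega
      · rw [eq_inv_iff_mul_eq_one, ← pow_add, ← orderOf_dvd_iff_pow_eq_one, h.order] at h3
        obtain ⟨c, hc⟩ := h3
        rcases Nat.lt_or_ge c 2 with hc2 | hc2
        · interval_cases c <;> omega
        · have : 2 * q * 2 ≤ 2 * q * c := Nat.mul_le_mul_left _ hc2
          omega

/-- A dihedral block of rank three in a group without central involutions. -/
theorem false_of_dihedral (hM : IsPModular 2 M) (hB : IsPBlock M B) {D : Subgroup G} {x s : G}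
    {q : ℕ} (hD : IsDefectGroup 2 M B D) (h : Dih D x s q) (hl : 3 ≤ blockRank 2 B)
    {c : G} (hc : c ∈ Subgroup.center G) (hc2 : orderOf c = 2) : False := by
  have hN : IsPGroup 2 (Subgroup.zpowers c) :=
    IsPGroup.of_card (n := 1) (by rw [Nat.card_zpowers, hc2, pow_one])
  haveI : (Subgroup.zpowers c).Normal := ⟨fun a ha g => by
    have : a ∈ Subgroup.center G := Subgroup.zpowers_le.2 hc ha
    rwa [Subgroup.mem_center_iff.1 this g, mul_inv_cancel_right]⟩
  have hcD : c ∈ D := le_defectGroup_of_normal hM hB hD hN (Subgroup.mem_zpowers c)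
  have hq := h.two_le
  have hcx : c ∈ Subgroup.zpowers x := by
    by_contra hout
    rcases h.cases c hcD with ⟨i, hi⟩ | ⟨i, hi⟩
    · exact hout (hi ▸ Subgroup.npow_mem_zpowers x i)
    have h1 : c * x * c⁻¹ = x⁻¹ := by
      calc c * x * c⁻¹ = s * x * s⁻¹ := by rw [hi]; group
        _ = _ := h.inv
    rw [← Subgroup.mem_center_iff.1 hc x, mul_inv_cancel_right, eq_inv_iff_mul_eq_one, ← sq,
      ← orderOf_dvd_iff_pow_eq_one, h.order] at h1
    have := Nat.le_of_dvd two_pos h1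
    omega
  have hz2 : orderOf (x ^ q) = 2 := by
    rw [orderOf_pow_of_dvd (by omega) (h.order ▸ dvd_mul_left q 2), h.order,
      Nat.mul_div_cancel _ (by omega)]
  have hcz : c = x ^ q := h.eq_of_order_le_two hcx (Subgroup.npow_mem_zpowers x q) (by rw [hc2, hz2])
    hc2.le
  obtain ⟨e, hP⟩ := exists_pairOf (isBlockIdem_ebar hB) (maxR_of_isDefectGroup hM hB hD).pgroup
    (maxR_of_isDefectGroup hM hB hD).ne_zero
  obtain ⟨t, ht⟩ := isConj_iff.1 (isConj_reflection hM hB h hP
    ((maxR_of_isDefectGroup hM hB hD).noExt hP) hl h.mem_s h.s_out)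
  refine h.s_out ?_
  rw [← hcz] at ht
  have : s = c := by
    calc s = t⁻¹ * (t * s * t⁻¹) * t := by group
      _ = t⁻¹ * c * t := by rw [ht]
      _ = c := by rw [Subgroup.mem_center_iff.1 hc t⁻¹, inv_mul_cancel_right]
  exact this ▸ hcx

/-- A quasidihedral block of rank three in a group without central involutions. -/
theorem false_of_quasiDihedral (hM : IsPModular 2 M) (hB : IsPBlock M B) {D : Subgroup G}
    (hD : IsDefectGroup 2 M B D) (hsd : IsQuasiDihedral D) (hl : 3 ≤ blockRank 2 B)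
    {c : G} (hc : c ∈ Subgroup.center G) (hc2 : orderOf c = 2) : False := by
  obtain ⟨n, hn, hcard, ⟨x, hxD⟩, ⟨y, hyD⟩, hx, hy, hrel⟩ := hsd
  rw [Subgroup.orderOf_mk] at hx hy
  have hrel' : y * x * y⁻¹ = x ^ (2 ^ (n - 1) - 1) := by simpa using congrArg Subtype.val hrel
  set N := Subgroup.zpowers c with hNdef
  have hN : IsPGroup 2 N := IsPGroup.of_card (n := 1) (by rw [Nat.card_zpowers, hc2, pow_one])
  have hNc : N ≤ Subgroup.center G := Subgroup.zpowers_le.2 hc
  haveI : N.Normal := ⟨fun a ha g => by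
    rwa [Subgroup.mem_center_iff.1 (hNc ha) g, mul_inv_cancel_right]⟩
  have hcD : c ∈ D := le_defectGroup_of_normal hM hB hD hN (Subgroup.mem_zpowers c)
  obtain ⟨m, rfl⟩ : ∃ m, n = m + 3 := ⟨n - 3, by omega⟩
  simp only [show m + 3 - 1 = m + 2 from rfl] at hrel'
  have e4 : 2 ^ (m + 2) = 4 * 2 ^ m := by rw [pow_add]; ring
  have e8 : 2 ^ (m + 3) = 8 * 2 ^ m := by rw [pow_add]; ring
  have hpos : 0 < 2 ^ m := pow_pos two_pos m
  -- the cases of `D`
  have hyx : y ∉ Subgroup.zpowers x := by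
    intro hmem
    obtain ⟨k, rfl⟩ := Subgroup.mem_zpowers_iff.1 hmem
    rw [show x ^ k * x * (x ^ k)⁻¹ = x ^ 1 by group, pow_inj_mod, hx] at hrel'
    rw [Nat.mod_eq_of_lt (by omega), Nat.mod_eq_of_lt (by omega)] at hrel'
    omega
  have hidx : ((Subgroup.zpowers x).subgroupOf D).index = 2 := by
    have h1 := Subgroup.card_mul_index ((Subgroup.zpowers x).subgroupOf D)
    rw [Nat.card_congr (Subgroup.subgroupOfEquivOfLe (Subgroup.zpowers_le.2 hxD)).toEquiv,
      Nat.card_zpowers, hx, hcard, pow_succ] at h1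
    exact Nat.eq_of_mul_eq_mul_left (by omega) h1
  have hcases : ∀ d ∈ D, (∃ i : ℕ, d = x ^ i) ∨ ∃ i : ℕ, d = y * x ^ i := by
    intro d hd
    by_cases hdx : d ∈ Subgroup.zpowers x
    · rw [← mem_powers_iff_mem_zpowers, Submonoid.mem_powers_iff] at hdx
      obtain ⟨i, hi⟩ := hdx
      exact Or.inl ⟨i, hi.symm⟩
    · have h1 : y⁻¹ * d ∈ Subgroup.zpowers x := by
        have h2 : (⟨y, hyD⟩⁻¹ * ⟨d, hd⟩ : D) ∈ (Subgroup.zpowers x).subgroupOf D := by
          rw [Subgroup.mul_mem_iff_of_index_two hidx]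
          simp [Subgroup.mem_subgroupOf, hyx, hdx]
        simpa [Subgroup.mem_subgroupOf] using h2
      rw [← mem_powers_iff_mem_zpowers, Submonoid.mem_powers_iff] at h1
      obtain ⟨i, hi⟩ := h1
      exact Or.inr ⟨i, by rw [hi, mul_inv_cancel_left]⟩
  set z := x ^ (2 ^ (m + 2)) with hz
  have hcz : c = z := by
    rcases hcases c hcD with ⟨i, hi⟩ | ⟨i, hi⟩
    · have h1 : x ^ (i * 2) = x ^ 0 := by
        rw [pow_mul, ← hi, pow_zero, ← hc2, pow_orderOf_eq_one]
      rw [pow_inj_mod, hx, Nat.zero_mod] at h1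
      obtain ⟨j, hj⟩ := Nat.dvd_of_mod_eq_zero h1
      rw [hi, hz, pow_inj_mod, hx]
      have hj2 : i = 2 ^ (m + 2) * j := by
        rw [e4]; rw [e8] at hj; nlinarith
      rcases Nat.even_or_odd' j with ⟨a, rfl | rfl⟩
      · exfalso
        have : c = 1 := by
          rw [hi, hj2, show 2 ^ (m + 2) * (2 * a) = 2 ^ (m + 3) * a by ring, pow_mul, ← hx,
            pow_orderOf_eq_one, one_pow]
        rw [this, orderOf_one] at hc2
        omega
      · rw [hj2, show 2 ^ (m + 2) * (2 * a + 1) = 2 ^ (m + 3) * a + 2 ^ (m + 2) by ring,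
          Nat.mul_add_mod]
    · exfalso
      have h1 : c * x * c⁻¹ = x ^ (2 ^ (m + 2) - 1) := by
        rw [← hrel', hi]; group
      rw [← Subgroup.mem_center_iff.1 hc x, mul_inv_cancel_right] at h1
      nth_rewrite 1 [← pow_one x] at h1
      rw [pow_inj_mod, hx, Nat.mod_eq_of_lt (by omega), Nat.mod_eq_of_lt (by omega)] at h1
      omega
  -- the dihedral image
  set π := QuotientGroup.mk' N with hπ
  haveI : Fintype (G ⧸ N) := Fintype.ofFinite _
  have hker : ∀ a : G, π a = 1 → a = 1 ∨ a = z := by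
    intro a ha
    obtain ⟨k, rfl⟩ := Subgroup.mem_zpowers_iff.1 ((QuotientGroup.eq_one_iff _).1 ha)
    rw [← hcz, ← zpow_mod_orderOf, hc2]
    rcases Int.emod_two_eq k with hk | hk
    · left; rw [show k % ((2 : ℕ) : ℤ) = 0 from hk, zpow_zero]
    · right; rw [show k % ((2 : ℕ) : ℤ) = 1 from hk, zpow_one]
  have hzπ : π z = 1 := (QuotientGroup.eq_one_iff _).2 (hcz ▸ Subgroup.mem_zpowers c)
  have hox : orderOf (π x) = 2 * 2 ^ (m + 1) := by
    rw [show 2 * 2 ^ (m + 1) = 2 ^ (m + 1 + 1) by ring]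
    refine orderOf_eq_prime_pow (fun h0 => ?_) (by rw [← map_pow]; exact hzπ)
    rw [← map_pow] at h0
    rcases hker _ h0 with h1 | h1
    · rw [← pow_zero x, pow_inj_mod, hx] at h1
      have : 2 ^ (m + 1) = 2 * 2 ^ m := by ring
      rw [Nat.mod_eq_of_lt (by omega), Nat.zero_mod] at h1
      omega
    · rw [hz, pow_inj_mod, hx] at h1
      have : 2 ^ (m + 1) = 2 * 2 ^ m := by ring
      rw [Nat.mod_eq_of_lt (by omega), Nat.mod_eq_of_lt (by omega)] at h1
      omega
  have hyπ : π y * π y = 1 := by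
    rw [← map_mul, ← sq, ← hy, pow_orderOf_eq_one, map_one]
  have hinv : π y * π x * (π y)⁻¹ = (π x)⁻¹ := by
    rw [← map_inv, ← map_mul, ← map_mul, hrel', eq_inv_iff_mul_eq_one, ← map_mul, ← pow_succ,
      Nat.sub_add_cancel (by omega), ← hz, hzπ]
  have hout : π y ∉ Subgroup.zpowers (π x) := by
    intro hmem
    obtain ⟨k, hk⟩ := Subgroup.mem_zpowers_iff.1 hmem
    rw [← map_zpow, eq_comm, ← inv_mul_eq_one, ← map_inv, ← map_mul] at hk
    refine hyx ?_
    have h2 : (y⁻¹ * x ^ k) ∈ Subgroup.zpowers x := by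
      rcases hker _ hk with h | h <;> rw [h]
      · exact one_mem _
      · exact Subgroup.npow_mem_zpowers x _
    have := (Subgroup.zpowers x).mul_mem h2 (zpow_mem (Subgroup.mem_zpowers x) (-k))
    rw [zpow_neg, mul_inv_cancel_right] at this
    exact (Subgroup.inv_mem_iff _).1 this
  have hcardbar : Nat.card (D.map π) = 4 * 2 ^ (m + 1) := by
    have hND : N ≤ D := Subgroup.zpowers_le.2 hcD
    have h1 := Subgroup.card_mul_index (N.subgroupOf D)
    rw [Nat.card_congr (Subgroup.subgroupOfEquivOfLe hND).toEquiv, Nat.card_zpowers, hc2, hcard,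
      pow_succ'] at h1
    have h2 : (N.subgroupOf D).index = Nat.card (D.map π) := by
      rw [show N.subgroupOf D = π.ker.subgroupOf D by rw [hπ, QuotientGroup.ker_mk']]
      exact Subgroup.relIndex_ker (f := π) D
    rw [← h2, Nat.eq_of_mul_eq_mul_left two_pos h1]
    ring
  have hdih : Dih (D.map π) (π x) (π y) (2 ^ (m + 1)) :=
    { mem_x := Subgroup.mem_map_of_mem π hxD
      mem_s := Subgroup.mem_map_of_mem π hyD
      two_le := by rw [pow_succ]; omega
      isPow := ⟨_, rfl⟩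
      order := hox
      s_sq := hyπ
      inv := hinv
      cases := by
        rintro _ ⟨d, hd, rfl⟩
        rcases hcases d hd with ⟨i, rfl⟩ | ⟨i, rfl⟩
        · exact Or.inl ⟨i, map_pow π x i⟩
        · exact Or.inr ⟨i, by rw [map_mul, map_pow]⟩
      s_out := hout
      card := hcardbar }
  obtain ⟨Bbar, hBbar, hiff, -⟩ := CfsgLib.CentralQuot.exists_quotient_block N hM hNc hN hB
  obtain ⟨B₂, hB₂, hsub, hdef⟩ := exists_block_quotient_defectGroup (N := N) hM hN hB
  obtain rfl : Bbar = B₂ := by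
    obtain ⟨χ, hχ⟩ := IsPBlock.nonempty hB₂
    exact IsPBlock.eq_of_mem hBbar hB₂ ((hiff χ).2 (hsub χ hχ)) hχ
  have hDbar : IsDefectGroup 2 M Bbar (D.map π) := (hdef _).2 ⟨D, hD, rfl⟩
  have hle := CfsgLib.CentralQuot.blockRank_le N hM hNc hN hB hBbar hiff
  obtain ⟨e, hP⟩ := exists_pairOf (isBlockIdem_ebar hBbar)
    (maxR_of_isDefectGroup hM hBbar hDbar).pgroup (maxR_of_isDefectGroup hM hBbar hDbar).ne_zero
  obtain ⟨t, ht⟩ := isConj_iff.1 (isConj_reflection hM hBbar hdih hP
    ((maxR_of_isDefectGroup hM hBbar hDbar).noExt hP) (by omega) hdih.mem_s hdih.s_out)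
  obtain ⟨g, rfl⟩ := QuotientGroup.mk'_surjective N t
  have h1 : π ((x ^ 2 ^ (m + 1))⁻¹ * (g * y * g⁻¹)) = 1 := by
    rw [map_mul, map_mul, map_mul, map_inv, map_inv, map_pow, ht, inv_mul_cancel]
  have h2 : ∃ i : ℕ, g * y * g⁻¹ = x ^ i ∧ (i = 2 ^ (m + 1) ∨ i = 2 ^ (m + 1) + 2 ^ (m + 2)) := by
    rcases hker _ h1 with h | h
    · exact ⟨_, (inv_mul_eq_one.1 h).symm, Or.inl rfl⟩
    · exact ⟨_, by rw [pow_add, ← hz, ← h, mul_inv_cancel_left], Or.inr rfl⟩
  obtain ⟨i, hi, hival⟩ := h2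
  have h3 : x ^ (i * 2) = x ^ 0 := by
    rw [pow_mul, ← hi, conj_pow, pow_zero, show y ^ 2 = 1 by rw [← hy, pow_orderOf_eq_one]]
    group
  rw [pow_inj_mod, hx, Nat.zero_mod] at h3
  have h4 : 2 ^ (m + 1) = 2 * 2 ^ m := by ring
  rcases hival with rfl | rfl
  · rw [Nat.mod_eq_of_lt (by omega)] at h3
    omega
  · rw [show (2 ^ (m + 1) + 2 ^ (m + 2)) * 2 = 2 ^ (m + 3) * 1 + 2 ^ (m + 2) by ring,
      Nat.mul_add_mod, Nat.mod_eq_of_lt (by omega)] at h3
    omega

end CfsgLib.TameRank
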