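import Cfsg.Agent.Lib.DihedralBlocks.Group
import Cfsg.Agent.Lib.FGStruct.FaithfulFrattini
import Cfsg.Prelude.Def_Blocks

/-!
# Regular classes of a solvable group with a small self-centralizing `2`-core
-/

set_option autoImplicit false
set_option maxHeartbeats 800000

open Cfsg
open scoped Classical

namespace CfsgLib.TameRank

universe u

/-- A cyclic subgroup of index two containing all elements of largest order. -/
def Shape (P : Type*) [Group P] : Prop :=
  ∃ x : P, Nat.card P = 2 * orderOf x ∧ ∀ d : P, d ∉ Subgroup.zpowers x → orderOf d < orderOf x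

theorem Shape.congr {P Q : Type*} [Group P] [Group Q] (h : Shape P) (e : P ≃* Q) : Shape Q := by
  obtain ⟨x, hc, hm⟩ := h
  refine ⟨e x, by rw [MulEquiv.orderOf_eq, ← Nat.card_congr e.toEquiv, hc], fun d hd => ?_⟩
  obtain ⟨d, rfl⟩ := e.surjective d
  rw [MulEquiv.orderOf_eq, MulEquiv.orderOf_eq]
  refine hm d fun hmem => hd ?_
  obtain ⟨k, rfl⟩ := Subgroup.mem_zpowers_iff.1 hmem
  exact Subgroup.mem_zpowers_iff.2 ⟨k, (map_zpow e x k).symm⟩

theorem exists_image_of_relIndex {P : Type*} [Group P] {x d₁ d₂ : P}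
    (hi : (Subgroup.zpowers x).index = 2) (h1 : d₁ ∉ Subgroup.zpowers x)
    (h2 : d₂ ∉ Subgroup.zpowers x) : d₁⁻¹ * d₂ ∈ Subgroup.zpowers x := by
  rw [Subgroup.mul_mem_iff_of_index_two hi]
  simp [h1, h2]

variable {X : Type u} [Group X] [Finite X]

/-- The Frattini quotient of a subgroup of a group of this shape has order at most four. -/
theorem card_quotient_frattini_le {P : Subgroup X} (hP : IsPGroup 2 P) (hS : Shape P)
    {U : Subgroup X} (hUP : U ≤ P) : Nat.card (↥U ⧸ frattini ↥U) ≤ 4 := by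
  obtain ⟨x, hcard, -⟩ := hS
  have hU : IsPGroup 2 U := hP.to_le hUP
  have hi : (Subgroup.zpowers x).index = 2 := by
    have h := Subgroup.card_mul_index (Subgroup.zpowers x)
    rw [Nat.card_zpowers, hcard, mul_comm] at h
    exact Nat.eq_of_mul_eq_mul_right (orderOf_pos x) h
  set A : Subgroup U := (Subgroup.zpowers x).comap (Subgroup.inclusion hUP) with hA
  haveI : IsCyclic A := by
    refine isCyclic_of_injective
      (f := ((Subgroup.inclusion hUP).comp A.subtype).codRestrict (Subgroup.zpowers x) fun a => a.2)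
      (fun a b h => ?_)
    exact Subtype.ext (Subgroup.inclusion_injective hUP (congrArg Subtype.val h))
  obtain ⟨a, ha⟩ := IsCyclic.exists_generator (α := A)
  obtain ⟨b, hb⟩ : ∃ b : U, ∀ w : U, w ∈ A ∨ b⁻¹ * w ∈ A := by
    by_cases hall : ∀ w : U, w ∈ A
    · exact ⟨1, fun w => Or.inl (hall w)⟩
    push Not at hall
    obtain ⟨b, hb⟩ := hall
    refine ⟨b, fun w => or_iff_not_imp_left.2 fun hw => ?_⟩
    rw [hA, Subgroup.mem_comap, map_mul, map_inv]
    exact exists_image_of_relIndex hi hb hw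
  set π := QuotientGroup.mk' (frattini U) with hπ
  have hsq : ∀ w : U, π w ^ 2 = 1 := fun w => by
    rw [← map_pow]
    exact (QuotientGroup.eq_one_iff _).2 (CfsgLib.PGroup.pow_mem_frattini hU w)
  have hA2 : ∀ w ∈ A, π w = 1 ∨ π w = π (a : U) := by
    intro w hw
    obtain ⟨k, hk⟩ := Subgroup.mem_zpowers_iff.1 (ha ⟨w, hw⟩)
    have hw' : (a : U) ^ k = w := by
      simpa using congrArg Subtype.val hk
    have h2 : π (a : U) ^ (2 : ℤ) = 1 := by
      rw [show (2 : ℤ) = ((2 : ℕ) : ℤ) from rfl, zpow_natCast, hsq]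
    rw [← hw', map_zpow]
    rcases Int.even_or_odd' k with ⟨m, rfl | rfl⟩
    · left; rw [zpow_mul, h2, one_zpow]
    · right; rw [zpow_add, zpow_mul, h2, one_zpow, one_mul, zpow_one]
  have hsub : (Set.univ : Set (↥U ⧸ frattini ↥U)) ⊆
      ({1, π (a : U), π b, π b * π (a : U)} : Finset (↥U ⧸ frattini ↥U)) := by
    intro v _
    obtain ⟨w, rfl⟩ := QuotientGroup.mk'_surjective (frattini U) v
    simp only [Finset.coe_insert, Finset.coe_singleton, Set.mem_insert_iff, Set.mem_singleton_iff]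
    rcases hb w with h | h
    · rcases hA2 w h with h | h
      · exact Or.inl h
      · exact Or.inr (Or.inl h)
    · have e : π w = π b * π (b⁻¹ * w) := by rw [← map_mul, mul_inv_cancel_left]
      rcases hA2 _ h with h | h <;> rw [← hπ, e, h]
      · exact Or.inr (Or.inr (Or.inl (mul_one _)))
      · exact Or.inr (Or.inr (Or.inr rfl))
  have h1 := Set.ncard_le_ncard hsub (Finset.finite_toSet _)
  rw [Set.ncard_univ, Set.ncard_coe_finset] at h1
  exact h1.trans Finset.card_le_four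

/-- The index of the `2`-core divides six. -/
theorem index_pCore_dvd_six (hC : Subgroup.centralizer (pCore 2 X : Set X) ≤ pCore 2 X)
    {P : Subgroup X} (hP : IsPGroup 2 P) (hS : Shape P) (hUP : pCore 2 X ≤ P) :
    (pCore 2 X).index ∣ 6 := by
  haveI := CfsgLib.Solvable.pCore_normal 2 X
  set U := pCore 2 X with hU
  let V := ↥U ⧸ frattini ↥U
  let c : X →* MulAut U := MulAut.conjNormal
  have hmap : ∀ g : X, (frattini ↥U).map (c g).toMonoidHom = frattini ↥U := fun g =>
    Subgroup.characteristic_iff_map_eq.1 inferInstance (c g)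
  let φ : X → Equiv.Perm {v : V // v ≠ 1} := fun g =>
    (QuotientGroup.congr (frattini ↥U) (frattini ↥U) (c g) (hmap g)).toEquiv.subtypeEquiv fun v => by
      simp
  have hφ : ∀ g h : X, φ (g * h) = φ g * φ h := by
    intro g h
    refine Equiv.ext fun v => Subtype.ext ?_
    obtain ⟨⟨w, hw⟩, rfl⟩ : ∃ w : {w : V // w ≠ 1}, w = v := ⟨v, rfl⟩
    obtain ⟨w', rfl⟩ := QuotientGroup.mk_surjective w
    simp only [φ, Equiv.Perm.mul_apply, Equiv.subtypeEquiv_apply, map_mul]
    rfl
  let f : X →* Equiv.Perm {v : V // v ≠ 1} := MonoidHom.mk' φ hφ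
  have hker : f.ker ≤ U := by
    intro g hg
    refine CfsgLib.FGStruct.mem_pCore_of_trivial_on_frattini hC fun y hy => ?_
    by_cases h1 : ((⟨y, hy⟩ : U) : V) = 1
    · have hmem : (⟨y, hy⟩ : U) ∈ frattini ↥U := (QuotientGroup.eq_one_iff _).1 h1
      have h2 : c g ⟨y, hy⟩ * ⟨y, hy⟩⁻¹ ∈ frattini ↥U :=
        mul_mem (hmap g ▸ Subgroup.mem_map_of_mem _ hmem) (inv_mem hmem)
      exact ⟨_, h2, rfl⟩
    · have h2 := congrArg Subtype.val
        (DFunLike.congr_fun (MonoidHom.mem_ker.1 hg) ⟨_, h1⟩)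
      have h3 : ((c g ⟨y, hy⟩ : U) : V) = ((⟨y, hy⟩ : U) : V) := h2
      have h4 : c g ⟨y, hy⟩ * ⟨y, hy⟩⁻¹ ∈ frattini ↥U :=
        (QuotientGroup.eq_one_iff _).1 (by rw [QuotientGroup.mk_mul, QuotientGroup.mk_inv, h3,
          mul_inv_cancel])
      exact ⟨_, h4, rfl⟩
  refine (Subgroup.index_dvd_of_le hker).trans ?_
  rw [Subgroup.index_ker]
  refine (Subgroup.card_subgroup_dvd_card _).trans ?_
  rw [Nat.card_perm]
  refine Nat.factorial_dvd_factorial (n := 3) ?_
  have h4 : Nat.card V ≤ 4 := card_quotient_frattini_le hP hS hUP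
  have : Nat.card {v : V // v ≠ 1} + 1 = Nat.card V := by
    haveI := Fintype.ofFinite V
    rw [Nat.card_eq_fintype_card, Nat.card_eq_fintype_card, Fintype.card_subtype_compl,
      Fintype.card_subtype_eq]
    exact Nat.sub_add_cancel Fintype.card_pos
  omega

/-- An element of odd order normalizing a group of this shape centralizes it. -/
theorem mem_centralizer_of_shape {P : Subgroup X} (hP : IsPGroup 2 P) (hS : Shape P) {y : X}
    (hy : y ∈ Subgroup.normalizer (P : Set X)) (hreg : IsPRegular 2 y) :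
    y ∈ Subgroup.centralizer (P : Set X) := by
  obtain ⟨x, hcard, hmax⟩ := hS
  have hi : (Subgroup.zpowers x).index = 2 := by
    have h := Subgroup.card_mul_index (Subgroup.zpowers x)
    rw [Nat.card_zpowers, hcard, mul_comm] at h
    exact Nat.eq_of_mul_eq_mul_right (orderOf_pos x) h
  have hPmem : ∀ d : X, d ∈ P → y * d * y⁻¹ ∈ P := fun d hd =>
    (Subgroup.mem_normalizer_iff.1 hy d).1 hd
  have hxp : IsPGroup 2 (Subgroup.zpowers (x : X)) := hP.to_le (Subgroup.zpowers_le.2 x.2)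
  have hZ : ∀ d : P, d ∈ Subgroup.zpowers x ↔ (d : X) ∈ Subgroup.zpowers (x : X) := fun d => by
    simp [Subgroup.mem_zpowers_iff, Subtype.ext_iff]
  -- the cyclic subgroup is invariant
  have hx' : y * x * y⁻¹ ∈ Subgroup.zpowers (x : X) := by
    by_contra hn
    have h1 := hmax ⟨_, hPmem _ x.2⟩ fun h => hn ((hZ _).1 h)
    rw [← Subgroup.orderOf_coe, ← Subgroup.orderOf_coe] at h1
    simp only [show y * (x : X) * y⁻¹ = MulAut.conj y (x : X) from rfl, MulEquiv.orderOf_eq] at h1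
    exact lt_irrefl _ h1
  have hyN : y ∈ Subgroup.normalizer (Subgroup.zpowers (x : X) : Set X) := by
    refine CfsgLib.Blocks.Pairs.mem_normalizer_of_conjSub_eq ?_
    have hle : Subgroup.zpowers (y * x * y⁻¹) ≤ Subgroup.zpowers (x : X) := Subgroup.zpowers_le.2 hx'
    refine ((MonoidHom.map_zpowers _ (x : X)).trans rfl).trans
      (Subgroup.eq_of_le_of_card_ge hle ?_)
    rw [Nat.card_zpowers, Nat.card_zpowers]
    exact le_of_eq (MulEquiv.orderOf_eq (MulAut.conj y) (x : X)).symm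
  have hxfix := CfsgLib.DihBlocks.Dih.commute_of_regular_normalizer hxp hyN hreg
  have hzfix : ∀ a ∈ Subgroup.zpowers (x : X), y * a * y⁻¹ = a := by
    intro a ha
    obtain ⟨k, rfl⟩ := Subgroup.mem_zpowers_iff.1 ha
    rw [← conj_zpow, hxfix]
  rw [Subgroup.mem_centralizer_iff]
  intro b hb
  suffices y * b * y⁻¹ = b from (mul_inv_eq_iff_eq_mul.1 this).symm
  by_cases hbx : b ∈ Subgroup.zpowers (x : X)
  · exact hzfix b hbx
  have hbx' : y * b * y⁻¹ ∉ Subgroup.zpowers (x : X) := by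
    intro h
    have h1 := hzfix _ h
    have e : y * b * y⁻¹ = b := mul_left_cancel (mul_right_cancel h1)
    exact hbx (e ▸ h)
  set c := b⁻¹ * (y * b * y⁻¹) with hc
  have hcx : c ∈ Subgroup.zpowers (x : X) := by
    have := exists_image_of_relIndex hi (d₁ := ⟨b, hb⟩) (d₂ := ⟨_, hPmem b hb⟩)
      (fun h => hbx ((hZ _).1 h)) (fun h => hbx' ((hZ _).1 h))
    exact (hZ _).1 this
  have hcfix := hzfix c hcx
  have hpow : ∀ m : ℕ, y ^ m * b * (y ^ m)⁻¹ = b * c ^ m := by
    intro m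
    induction m with
    | zero => simp
    | succ m ih =>
      calc y ^ (m + 1) * b * (y ^ (m + 1))⁻¹ = y * (y ^ m * b * (y ^ m)⁻¹) * y⁻¹ := by
            rw [pow_succ']; group
        _ = y * b * y⁻¹ * (y * c * y⁻¹) ^ m := by rw [ih, conj_pow]; group
        _ = b * c ^ (m + 1) := by
            rw [hcfix, show y * b * y⁻¹ = b * c by rw [hc]; group, pow_succ', mul_assoc]
  have h1 := hpow (orderOf y)
  rw [pow_orderOf_eq_one, one_mul, inv_one, mul_one, left_eq_mul] at h1
  obtain ⟨t, ht⟩ := hxp ⟨c, hcx⟩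
  have h2 : orderOf c ∣ 2 ^ t := orderOf_dvd_of_pow_eq_one (congrArg Subtype.val ht)
  have h3 : orderOf c = 1 := Nat.eq_one_of_dvd_coprimes
    ((Nat.prime_two.coprime_iff_not_dvd.mpr hreg).symm.pow_right t)
    (orderOf_dvd_of_pow_eq_one h1) h2
  rw [orderOf_eq_one_iff, hc, inv_mul_eq_one] at h3
  exact h3.symm

/-- A self-centralizing `2`-core inside a Sylow subgroup of this shape leaves at most two regular
classes. -/
theorem card_regular_classes_le (hC : Subgroup.centralizer (pCore 2 X : Set X) ≤ pCore 2 X)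
    (P : Sylow 2 X) (hS : Shape (P : Subgroup X)) :
    Nat.card {C : ConjClasses X // ∀ g : X, ConjClasses.mk g = C → IsPRegular 2 g} ≤ 2 := by
  haveI := CfsgLib.Solvable.pCore_normal 2 X
  set U := pCore 2 X with hU
  have hUP : U ≤ P := by
    obtain ⟨Q, hQ⟩ := (CfsgLib.Solvable.pCore_isPGroup 2 X).exists_le_sylow
    obtain ⟨g, rfl⟩ := MulAction.exists_smul_eq X Q P
    intro a ha
    rw [Sylow.coe_subgroup_smul, Subgroup.mem_pointwise_smul_iff_inv_smul_mem]
    exact hQ ((inferInstance : U.Normal).conj_mem a ha g⁻¹ |> fun h => by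
      simpa [MulAut.smul_def] using h)
  have h6 : U.index ∣ 6 := index_pCore_dvd_six hC P.2 hS hUP
  have hU1 : ∀ y : X, IsPRegular 2 y → y ∈ U → y = 1 := by
    intro y hy hyU
    obtain ⟨k, hk⟩ := IsPGroup.iff_orderOf.1 (CfsgLib.Solvable.pCore_isPGroup 2 X) ⟨y, hyU⟩
    rw [Subgroup.orderOf_mk] at hk
    rcases k with _ | k
    · exact orderOf_eq_one_iff.1 (by rw [hk, pow_zero])
    · exact absurd (hk ▸ dvd_pow_self 2 k.succ_ne_zero) hy
  suffices h : ∃ y₀ : X, ∀ y : X, IsPRegular 2 y → y = 1 ∨ IsConj y₀ y by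
    obtain ⟨y₀, h⟩ := h
    calc Nat.card {C : ConjClasses X // ∀ g : X, ConjClasses.mk g = C → IsPRegular 2 g}
        ≤ ({ConjClasses.mk 1, ConjClasses.mk y₀} : Finset (ConjClasses X)).card := by
          rw [← Nat.card_eq_finsetCard]
          refine Nat.card_le_card_of_injective (fun C => ⟨C.1, ?_⟩)
            fun C C' (hCC : (⟨C.1, _⟩ : ↥({ConjClasses.mk 1, ConjClasses.mk y₀} : Finset (ConjClasses X))) = ⟨C'.1, _⟩) =>
              Subtype.ext (Subtype.mk.inj hCC)
          obtain ⟨g, hg⟩ := ConjClasses.exists_rep C.1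
          rcases h g (C.2 g hg) with rfl | hc
          · simp [← hg]
          · simp [← hg, ConjClasses.mk_eq_mk_iff_isConj.2 hc.symm]
      _ ≤ 2 := Finset.card_le_two
  have hcardQ : Nat.card (X ⧸ U) = U.index := (Subgroup.index_eq_card U).symm
  by_cases h2 : U.index ∣ 2
  · refine ⟨1, fun y hy => Or.inl (hU1 y hy ((QuotientGroup.eq_one_iff _).1 ?_))⟩
    refine orderOf_eq_one_iff.1 (Nat.eq_one_of_dvd_coprimes
      (show Nat.Coprime (orderOf y) 2 from (Nat.prime_two.coprime_iff_not_dvd.mpr hy).symm)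
      (orderOf_map_dvd (QuotientGroup.mk' U) y) ?_)
    exact (orderOf_dvd_natCard _).trans (hcardQ ▸ h2)
  by_cases h3 : U.index = 3
  · exfalso
    have hPU : (P : Subgroup X) = U := by
      refine (Subgroup.eq_of_le_of_card_ge hUP ?_).symm
      have hdvd := P.not_dvd_index
      have h1 := Subgroup.relIndex_mul_index hUP
      rw [h3] at h1
      obtain ⟨t, ht⟩ := IsPGroup.iff_card.1 (P.2 : IsPGroup 2 (P : Subgroup X))
      have h4 : U.relIndex P = 1 := by
        rcases (Nat.dvd_prime Nat.prime_three).1 ⟨_, h1.symm⟩ with h4 | h4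
        · exact h4
        · have : U.relIndex P ∣ 2 ^ t := ht ▸ Subgroup.relIndex_dvd_card U P
          rw [h4] at this
          have := Nat.prime_three.dvd_of_dvd_pow this
          omega
      exact Subgroup.card_le_of_le (Subgroup.relIndex_eq_one.1 h4)
    haveI : Fact (Nat.Prime 3) := ⟨Nat.prime_three⟩
    obtain ⟨y, hy⟩ := exists_prime_orderOf_dvd_card' (G := X) 3
      (h3 ▸ Subgroup.index_dvd_card U)
    have hreg : IsPRegular 2 y := by rw [IsPRegular, hy]; norm_num
    have hyU : y ∈ U := hC (hPU ▸ mem_centralizer_of_shape P.2 hS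
      (hPU.symm ▸ by rw [Subgroup.normalizer_eq_top]; exact Subgroup.mem_top _) hreg)
    rw [hU1 y hreg hyU, orderOf_one] at hy
    norm_num at hy
  have h6' : U.index = 6 := by
    have := Nat.le_of_dvd (by norm_num) h6
    interval_cases hh : U.index <;> omega
  rw [h6'] at hcardQ
  haveI : Fact (Nat.Prime 2) := ⟨Nat.prime_two⟩
  haveI : Fact (Nat.Prime 3) := ⟨Nat.prime_three⟩
  set π := QuotientGroup.mk' U with hπ
  obtain ⟨a, ha⟩ := exists_prime_orderOf_dvd_card' (G := X ⧸ U) 3 (hcardQ ▸ by norm_num)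
  have haidx : (Subgroup.zpowers a).index = 2 := by
    have := Subgroup.card_mul_index (Subgroup.zpowers a)
    rw [Nat.card_zpowers, ha, hcardQ] at this
    omega
  have hmemR : ∀ b : X ⧸ U, b ^ 3 = 1 → b = 1 ∨ b = a ∨ b = a⁻¹ := by
    intro b hb
    have hbR : b ∈ Subgroup.zpowers a := by
      have h := Subgroup.sq_mem_of_index_two haidx b
      have e : b = (b ^ 2) ^ 2 := by
        rw [← pow_mul, show 2 * 2 = 3 + 1 from rfl, pow_succ, hb, one_mul]
      rw [e]
      exact pow_mem h 2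
    obtain ⟨k, rfl⟩ := Subgroup.mem_zpowers_iff.1 hbR
    have : a ^ k = a ^ (k % 3) := by rw [← zpow_mod_orderOf, ha]; rfl
    rw [this]
    have : k % 3 = 0 ∨ k % 3 = 1 ∨ k % 3 = 2 := by omega
    rcases this with h | h | h <;> rw [h]
    · left; simp
    · right; left; simp
    · right; right
      rw [eq_inv_iff_mul_eq_one, show (2 : ℤ) = ((2 : ℕ) : ℤ) from rfl, zpow_natCast, ← pow_succ,
        show 2 + 1 = orderOf a from ha.symm, pow_orderOf_eq_one]
  obtain ⟨t, ht⟩ : ∃ t : X ⧸ U, t * a * t⁻¹ = a⁻¹ := by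
    by_contra hcon
    push Not at hcon
    have hcen : ∀ t : X ⧸ U, t * a * t⁻¹ = a := fun t => by
      rcases hmemR (t * a * t⁻¹) (by rw [conj_pow, ← ha, pow_orderOf_eq_one]; group) with h | h | h
      · rw [conj_eq_one_iff] at h
        rw [h, orderOf_one] at ha
        norm_num at ha
      · exact h
      · exact absurd h (hcon t)
    obtain ⟨s, hs⟩ := exists_prime_orderOf_dvd_card' (G := X ⧸ U) 2 (hcardQ ▸ by norm_num)
    have hcomm : Commute s a := mul_inv_eq_iff_eq_mul.1 (hcen s)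
    haveI : IsCyclic (X ⧸ U) := isCyclic_of_orderOf_eq_card (s * a) (by
      rw [hcomm.orderOf_mul_eq_mul_orderOf_of_coprime (by rw [hs, ha]; norm_num), hs, ha, hcardQ])
    letI := IsCyclic.commGroup (α := X ⧸ U)
    have hPn : (((P : Subgroup X).map π).comap π).Normal :=
      (inferInstance : ((P : Subgroup X).map π).Normal).comap π
    rw [Subgroup.comap_map_eq, hπ, QuotientGroup.ker_mk', sup_eq_left.2 hUP] at hPn
    have hle : (P : Subgroup X) ≤ U := CfsgLib.Solvable.le_pCore hPn P.2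
    exact P.not_dvd_index (by rw [le_antisymm hle hUP, h6']; norm_num)
  obtain ⟨t, rfl⟩ := QuotientGroup.mk'_surjective U t
  obtain ⟨y₀, hy₀⟩ := exists_prime_orderOf_dvd_card' (G := X) 3
    (dvd_trans (by norm_num) (h6' ▸ Subgroup.index_dvd_card U))
  have hy₀r : IsPRegular 2 y₀ := by rw [IsPRegular, hy₀]; norm_num
  have hpow3 : ∀ y : X, IsPRegular 2 y → y ^ 3 = 1 := by
    intro y hy
    have h1 : orderOf (π y) ∣ 3 := by
      refine (Nat.Coprime.dvd_of_dvd_mul_left ?_ ((orderOf_dvd_natCard _).trans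
        (hcardQ ▸ dvd_refl _ : _ ∣ 2 * 3)))
      exact Nat.Coprime.coprime_dvd_left (orderOf_map_dvd π y)
        (Nat.prime_two.coprime_iff_not_dvd.mpr hy).symm
    refine hU1 _ ?_ ((QuotientGroup.eq_one_iff _).1 ?_)
    · exact fun hd => hy (hd.trans (orderOf_pow_dvd 3))
    · rw [← QuotientGroup.mk'_apply, map_pow]
      exact orderOf_dvd_iff_pow_eq_one.1 h1
  refine ⟨y₀, fun y hy => or_iff_not_imp_left.2 fun hy1 => ?_⟩
  have him : ∀ z : X, IsPRegular 2 z → z ≠ 1 → π z = a ∨ π z = a⁻¹ := fun z hz hz1 =>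
    ((hmemR (π z) (by rw [← map_pow, hpow3 z hz, map_one])).resolve_left
      fun h => hz1 (hU1 z hz ((QuotientGroup.eq_one_iff _).1 h)))
  have hy₀1 : y₀ ≠ 1 := fun h => by rw [h, orderOf_one] at hy₀; norm_num at hy₀
  obtain ⟨y', hyy', hy'⟩ : ∃ y', IsConj y y' ∧ π y' = π y₀ := by
    rcases him y₀ hy₀r hy₀1 with h | h <;> rcases him y hy hy1 with h' | h'
    · exact ⟨y, IsConj.refl y, h'.trans h.symm⟩
    · exact ⟨t * y * t⁻¹, isConj_iff.2 ⟨t, rfl⟩, by
        rw [map_mul, map_mul, map_inv, h', ← conj_inv, ht, inv_inv, h]⟩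
    · exact ⟨t * y * t⁻¹, isConj_iff.2 ⟨t, rfl⟩, by
        rw [map_mul, map_mul, map_inv, h', ht, h]⟩
    · exact ⟨y, IsConj.refl y, h'.trans h.symm⟩
  refine IsConj.trans ?_ hyy'.symm
  obtain ⟨c, hc⟩ := isConj_iff.1 hyy'
  have hy'r : orderOf y' = 3 := by
    refine orderOf_eq_prime ?_ fun h => hy1 ?_
    · rw [← hc, conj_pow, hpow3 y hy]; group
    · rwa [← hc, conj_eq_one_iff] at h
  -- both elements generate Sylow subgroups of the preimage of their common image
  set T := (Subgroup.zpowers (π y₀)).comap π with hT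
  have hy₀T : y₀ ∈ T := Subgroup.mem_zpowers _
  have hy'T : y' ∈ T := by
    rw [hT, Subgroup.mem_comap, hy']; exact Subgroup.mem_zpowers _
  have hTcard : ∀ z : T, orderOf z = 3 → ¬ 3 ∣ (Subgroup.zpowers z).index := by
    intro z hz hdvd
    have h1 := Subgroup.card_mul_index (Subgroup.zpowers z)
    rw [Nat.card_zpowers, hz] at h1
    have h9 : 3 * 3 ∣ Nat.card T := h1 ▸ mul_dvd_mul_left 3 hdvd
    have h2 : Nat.card T = Nat.card U * Nat.card (Subgroup.zpowers (π y₀)) := by
      have h := Subgroup.card_mul_index (U.subgroupOf T)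
      have hUT : U ≤ T := fun w hw => by
        rw [hT, Subgroup.mem_comap, show π w = 1 from (QuotientGroup.eq_one_iff w).2 hw]
        exact one_mem _
      rw [Nat.card_congr (Subgroup.subgroupOfEquivOfLe hUT).toEquiv] at h
      rw [← h]
      congr 1
      show U.relIndex T = _
      rw [show U.relIndex T = π.ker.relIndex T by rw [hπ, QuotientGroup.ker_mk'],
        Subgroup.relIndex_ker, hT,
        Subgroup.map_comap_eq_self_of_surjective (QuotientGroup.mk'_surjective U)]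
    obtain ⟨k, hk⟩ := IsPGroup.iff_card.1 (CfsgLib.Solvable.pCore_isPGroup 2 X)
    have hcop : Nat.Coprime (3 * 3) (Nat.card U) := by
      rw [hU, hk]; exact Nat.Coprime.pow_right _ (by norm_num)
    have h3' : Nat.card (Subgroup.zpowers (π y₀)) ∣ 3 := by
      rw [Nat.card_zpowers, ← hy₀]; exact orderOf_map_dvd π y₀
    have := (Nat.Coprime.dvd_of_dvd_mul_left hcop (h2 ▸ h9)).trans h3'
    norm_num at this
  have hS : ∀ z : T, orderOf z = 3 → ∃ S : Sylow 3 T, (S : Subgroup T) = Subgroup.zpowers z := by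
    intro z hz
    exact ⟨(IsPGroup.of_card (n := 1) (by rw [Nat.card_zpowers, hz, pow_one])).toSylow (hTcard z hz),
      rfl⟩
  obtain ⟨S₀, hS₀⟩ := hS ⟨y₀, hy₀T⟩ (by rw [← Subgroup.orderOf_coe]; exact hy₀)
  obtain ⟨S', hS'⟩ := hS ⟨y', hy'T⟩ (by rw [← Subgroup.orderOf_coe]; exact hy'r)
  obtain ⟨w, hw⟩ := MulAction.exists_smul_eq T S₀ S'
  have hmem : w * ⟨y₀, hy₀T⟩ * w⁻¹ ∈ Subgroup.zpowers (⟨y', hy'T⟩ : T) := by
    rw [← hS', ← hw, Sylow.coe_subgroup_smul, hS₀]
    exact Subgroup.smul_mem_pointwise_smul _ (MulAut.conj w) _ (Subgroup.mem_zpowers _)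
  obtain ⟨k, hk⟩ := Subgroup.mem_zpowers_iff.1 hmem
  have hk' : y' ^ k = (w : X) * y₀ * (w : X)⁻¹ := by simpa using congrArg Subtype.val hk
  refine isConj_iff.2 ⟨w, ?_⟩
  rw [← hk']
  have h1 : π y₀ ^ k = π y₀ := by
    obtain ⟨j, hj⟩ := Subgroup.mem_zpowers_iff.1 (w.2 : π (w : X) ∈ Subgroup.zpowers (π y₀))
    have := congrArg π hk'
    rw [map_zpow, hy', map_mul, map_mul, map_inv, ← hj] at this
    rw [this]; group
  have h2 : (3 : ℤ) ∣ k - 1 := by
    have h4 : π y₀ ^ (k - 1) = 1 := by rw [zpow_sub_one, h1, mul_inv_cancel]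
    have h5 : orderOf (π y₀) = 3 := by
      refine orderOf_eq_prime (by rw [← map_pow, hpow3 y₀ hy₀r, map_one]) fun h => hy₀1 ?_
      exact hU1 y₀ hy₀r ((QuotientGroup.eq_one_iff _).1 h)
    rw [← orderOf_dvd_iff_zpow_eq_one, h5] at h4
    exact_mod_cast h4
  conv_rhs => rw [← zpow_one y']
  rw [zpow_eq_zpow_iff_modEq, hy'r]
  exact (Int.modEq_iff_dvd.2 (by exact_mod_cast h2)).symm

end CfsgLib.TameRank
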